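import Cfsg.Agent.SmallSimple.TheoremBCor
import Cfsg.Agent.M22.Degrees
import Cfsg.Agent.J2Type.SylowSeven
import Cfsg.Agent.H329.K4.SigCol
import Cfsg.Agent.H299.K4.SuzX
import Cfsg.Agent.H978.TZ.Suz
import Cfsg.Agent.H989.TwoCSpor
import Cfsg.Agent.H740.K4.Equiv_m3
import Cfsg.Agent.H348.PPD.RowSuz
import Cfsg.Agent.H535.Ore.ON
import Cfsg.Agent.H710.R4.CharON
import Cfsg.Agent.H692.RealOver
import Cfsg.Agent.H921.K4.Uniq_m3
import Cfsg.Agent.H714.K4.Defs
import Cfsg.Agent.Prune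
set_option linter.all false

section
prune_inst 0x7f00000000000000000000000000000000000000000000000000000000000000000000000000000000000000000000000000000000000000000000000000000000000000000000000000000000000000003fffffffffffffffffffffffffffbeffbdffffffff

-- part: H299/K4/Const
section
set_option linter.all false
open scoped Cfsg.Agent.FastGrp

/-!
# Values at a self-centralizing Sylow subgroup of prime order (helper299, for S4947 and S4547)

* `val_of_const` : a constant integral value on `P ∖ 1` is `0` or `±1`;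
* `residue` : the same for a character invariant under the Galois group, with the residue of the degree;
* `pow_good` : the Galois conjugates of a good character are good;
* `inv_of_four` : if all the good characters are among four, three of which are Galois invariant, they all are.
-/

set_option autoImplicit false

namespace Cfsg.Agent.H299.K4.Const

open Cfsg Subgroup Cfsg.Agent.Characters.Core Cfsg.Agent.Characters Cfsg.Agent.H601.K4 Cfsg.Agent.H329.K4
  Cfsg.Agent.H601.OddDeg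

universe u

section gen

variable {G : Type u} [Group G] [Finite G]

theorem sum_linear {P : Type u} [Group P] [Fintype P] (l : P →* ℂˣ) (hl : l ≠ 1) : ∑ x : P, ((l x : ℂˣ) : ℂ) = 0 := by
  have h : ((Units.coeHom ℂ).comp l) ≠ 1 := by
    intro h
    apply hl
    apply MonoidHom.ext
    intro x
    apply Units.ext
    have := DFunLike.congr_fun h x
    exact this
  exact sum_hom_units_eq_zero ((Units.coeHom ℂ).comp l) h

/-- A constant value on a self-centralizing Sylow subgroup of prime order. -/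
theorem val_of_const (p : ℕ) [hp : Fact p.Prime] (hp2 : p ≠ 2) (P : Sylow p G) (hP : Nat.card P = p)
    (hC : centralizer (P : Set G) = (P : Subgroup G)) (χ : IrrCharacter G) (z : ℤ)
    (hz : ∀ x ∈ P, x ≠ 1 → (χ : G → ℂ) x = z) : z = 0 ∨ z = 1 ∨ z = -1 := by
  classical
  have hp' := hp.out
  have hd := Cfsg.Agent.J2Type.SylowSeven.relIndex_dvd_of_card_prime (P : Subgroup G) hp' hP
  obtain ⟨t, ht⟩ := hd
  set e := (centralizer ((P : Subgroup G) : Set G)).relIndex (normalizer ((P : Subgroup G) : Set G)) with he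
  obtain ⟨NE, X, ε, d, S, -, -, -, hε, hdd, -, hval, hexc, -, -, hrest⟩ :=
    Cfsg.Agent.SmallSimple.TheoremBCor.theoremB_selfCent p hp2 P hP hC e t he.symm ht.symm
  have hex : ∃ x ∈ P, x ≠ 1 := by
    have h1 : Nontrivial P := by
      rw [← Finite.one_lt_card_iff_nontrivial, hP]
      exact hp'.one_lt
    obtain ⟨x, hx⟩ := exists_ne (1 : P)
    exact ⟨x, x.2, fun h => hx (Subtype.ext h)⟩
  obtain ⟨x, hxP, hx1⟩ := hex
  by_cases hN : χ ∈ NE
  · have h1 := hval χ hN x hxP hx1
    rw [hz x hxP hx1] at h1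
    have h2 : z = ε χ := by exact_mod_cast h1
    rw [h2]
    exact Or.inr (hε χ hN)
  by_cases hX : χ ∈ X
  · obtain ⟨h1, h2, h3⟩ := hexc χ hX
    have := Fintype.ofFinite P
    have h4 : ∑ y ∈ (Finset.univ : Finset P).erase 1, (χ : G → ℂ) (y : G) = ((p - 1 : ℕ) : ℂ) * z := by
      have hc1 : ∑ y ∈ (Finset.univ : Finset P).erase 1, (χ : G → ℂ) (y : G) =
          ∑ _y ∈ (Finset.univ : Finset P).erase 1, (z : ℂ) :=
        Finset.sum_congr rfl fun y hy => hz y y.2 fun h => (Finset.mem_erase.1 hy).1 (Subtype.ext h)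
      rw [hc1, Finset.sum_const, nsmul_eq_mul, Finset.card_erase_of_mem (Finset.mem_univ _), Finset.card_univ,
        ← Nat.card_eq_fintype_card, hP]
    have h5 : ∑ y ∈ (Finset.univ : Finset P).erase 1, (χ : G → ℂ) (y : G) = -(d : ℂ) * e := by
      have h6 : ∑ y ∈ (Finset.univ : Finset P).erase 1, (χ : G → ℂ) (y : G) =
          ∑ y ∈ (Finset.univ : Finset P).erase 1, (d : ℂ) * ∑ l ∈ S χ, ((l y : ℂˣ) : ℂ) :=
        Finset.sum_congr rfl fun y hy => h3 y (Finset.mem_erase.1 hy).1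
      have h7 : ∑ y : P, (d : ℂ) * ∑ l ∈ S χ, ((l y : ℂˣ) : ℂ) = 0 := by
        rw [← Finset.mul_sum, Finset.sum_comm, Finset.sum_eq_zero, mul_zero]
        intro l hl
        exact sum_linear l fun h => h2 (h ▸ hl)
      have h8 := Finset.add_sum_erase Finset.univ (fun y : P => (d : ℂ) * ∑ l ∈ S χ, ((l y : ℂˣ) : ℂ))
        (Finset.mem_univ (1 : P))
      replace h8 := h8.trans h7
      have h9 : (d : ℂ) * ∑ l ∈ S χ, ((l (1 : P) : ℂˣ) : ℂ) = d * e := by
        rw [Finset.sum_congr rfl (g := fun _ => (1 : ℂ)) (fun l _ => by rw [map_one, Units.val_one]), Finset.sum_const,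
          h1, nsmul_eq_mul, mul_one]
      rw [h6]
      simp only [h9] at h8
      linear_combination h8
    rw [h4] at h5
    have h6 : ((p - 1 : ℕ) : ℤ) * z = -d * e := by exact_mod_cast h5
    have h7 : (p - 1 : ℕ) ≠ 0 := by have := hp'.one_lt; omega
    have h8 : e ≤ p - 1 := Nat.le_of_dvd (by omega) ⟨t, ht⟩
    have h9 : |((p - 1 : ℕ) : ℤ) * z| ≤ ((p - 1 : ℕ) : ℤ) := by
      rw [h6]
      rcases hdd with h10 | h10 <;> rw [h10] <;> simp <;> exact_mod_cast h8
    have h10 : |z| ≤ 1 := by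
      rw [abs_mul, Nat.abs_cast] at h9
      have h11 : (0 : ℤ) < ((p - 1 : ℕ) : ℤ) := by exact_mod_cast Nat.pos_of_ne_zero h7
      by_contra hcon
      push Not at hcon
      nlinarith
    have h11 := abs_le.1 h10
    omega
  · have h1 := (hrest χ hN hX).1 x hxP hx1
    rw [hz x hxP hx1] at h1
    left
    exact_mod_cast h1

/-- Powers of an element of prime order. -/
theorem exists_coprime {p : ℕ} (hp : p.Prime) {x : G} (hx : orderOf x = p) {y : G} (hy : y ∈ zpowers x) (hy1 : y ≠ 1) :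
    ∃ k : ℕ, k.Coprime (Nat.card G) ∧ x ^ k = y := by
  classical
  obtain ⟨j, rfl⟩ := mem_powers_iff_mem_zpowers.2 hy
  have hj : ¬ p ∣ j := by
    intro h
    apply hy1
    show x ^ j = 1
    rw [← orderOf_dvd_iff_pow_eq_one, hx]
    exact h
  have hk : (orderOf x).Coprime j := by
    rw [hx]
    exact (Nat.Prime.coprime_iff_not_dvd hp).2 hj
  let u : (ZMod (orderOf x))ˣ := ZMod.unitOfCoprime j hk.symm
  have : NeZero (Nat.card G) := ⟨Nat.card_pos.ne'⟩
  obtain ⟨w, hw⟩ := ZMod.unitsMap_surjective (orderOf_dvd_natCard x) u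
  refine ⟨(w : ZMod (Nat.card G)).val, ZMod.val_coe_unit_coprime w, ?_⟩
  show x ^ _ = x ^ j
  refine pow_eq_pow_iff_modEq.2 ?_
  rw [← ZMod.natCast_eq_natCast_iff]
  have h4 := congrArg Units.val hw
  rw [ZMod.unitsMap_val] at h4
  rw [ZMod.coe_unitOfCoprime] at h4
  rw [← h4, ← ZMod.cast_eq_val]

/-- The value of a Galois invariant character at a self-centralizing element of prime order. -/
theorem residue (p : ℕ) [hp : Fact p.Prime] (hp2 : p ≠ 2) {m : ℕ} (hcard : Nat.card G = p * m) (hm : ¬ p ∣ m)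
    {x : G} (hx : orderOf x = p) (hxc : Nat.card (centralizer ({x} : Set G)) = p) (χ : IrrCharacter G)
    (hinv : ∀ k : ℕ, k.Coprime (Nat.card G) → ∀ g, (χ : G → ℂ) (g ^ k) = (χ : G → ℂ) g) :
    ∃ z : ℤ, (z = 0 ∨ z = 1 ∨ z = -1) ∧ (χ : G → ℂ) x = z ∧ (p : ℤ) ∣ (charDegree (χ : G → ℂ) : ℤ) - z := by
  classical
  have hp' := hp.out
  -- the Sylow subgroup
  have hz : Nat.card (zpowers x) = p := by rw [Nat.card_zpowers, hx]
  obtain ⟨P, hPx⟩ := (IsPGroup.of_card (n := 1) (by rw [hz, pow_one]) : IsPGroup p (zpowers x)).exists_le_sylow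
  have hPc : Nat.card P = p := Cfsg.Agent.M22.Degrees.card_sylow_eq hcard hm P
  have hPe : (P : Subgroup G) = zpowers x :=
    (Subgroup.eq_of_le_of_card_ge hPx (by rw [hPc, hz])).symm
  have hC : centralizer (P : Set G) = (P : Subgroup G) := by
    have h1 : centralizer ({x} : Set G) = (P : Subgroup G) := by
      refine (Subgroup.eq_of_le_of_card_ge ?_ (by rw [hPc, hxc])).symm
      rw [hPe, zpowers_le]
      exact mem_centralizer_singleton_iff.2 rfl
    rw [← h1]
    apply le_antisymm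
    · exact centralizer_le (by rw [Set.singleton_subset_iff]; exact hPx (mem_zpowers x))
    · rw [h1]
      intro y hy z hzP
      have hy' : y ∈ zpowers x := hPe ▸ hy
      have hz' : z ∈ zpowers x := hPe ▸ hzP
      obtain ⟨i, rfl⟩ := hy'
      obtain ⟨j, rfl⟩ := hz'
      exact ((Commute.refl x).zpow_zpow j i).eq
  have hconst : ∀ y ∈ P, y ≠ 1 → (χ : G → ℂ) y = (χ : G → ℂ) x := by
    intro y hy hy1
    obtain ⟨k, hk, rfl⟩ := exists_coprime hp' hx (hPe ▸ hy : y ∈ zpowers x) hy1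
    exact hinv k hk x
  -- the value is an integer
  have := Fintype.ofFinite P
  obtain ⟨z, hz⟩ : ∃ z : ℤ, (χ : G → ℂ) x = z := by
    obtain ⟨n, hn⟩ := Cfsg.Agent.M22.BDataOfBlocks.exists_sum_eq (isIrr_isCharacter χ.2) (P : Subgroup G)
    have hsp := Finset.add_sum_erase Finset.univ (fun y : ↥(P : Subgroup G) => (χ : G → ℂ) (y : G))
      (Finset.mem_univ 1)
    have hc1 : ∑ y ∈ (Finset.univ : Finset ↥(P : Subgroup G)).erase 1, (χ : G → ℂ) (y : G) =
        ∑ _y ∈ (Finset.univ : Finset ↥(P : Subgroup G)).erase 1, (χ : G → ℂ) x :=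
      Finset.sum_congr rfl fun y hy => hconst y y.2 fun h => (Finset.mem_erase.1 hy).1 (Subtype.ext h)
    rw [← hsp, hc1, Finset.sum_const, nsmul_eq_mul, Finset.card_erase_of_mem (Finset.mem_univ _), Finset.card_univ,
      ← Nat.card_eq_fintype_card] at hn
    have h1 : (χ : G → ℂ) ((1 : ↥(P : Subgroup G)) : G) = (charDegree (χ : G → ℂ) : ℂ) := by
      rw [OneMemClass.coe_one]
      exact Cfsg.Agent.Blocks.Basic.irr_one_eq_charDegree χ.2
    have hPc' : Nat.card ↥(P : Subgroup G) = p := hPc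
    rw [h1, hPc'] at hn
    refine GaloisBasic.exists_int_of_isIntegral (GaloisBasic.isIntegral_apply (isIrr_isCharacter χ.2) x)
      ⟨((p : ℚ) * n - charDegree (χ : G → ℂ)) / ((p - 1 : ℕ) : ℚ), ?_⟩
    have h2 : ((p - 1 : ℕ) : ℂ) ≠ 0 := by
      have := hp'.one_lt
      exact Nat.cast_ne_zero.2 (by omega)
    push_cast at hn ⊢
    field_simp
    linear_combination hn
  refine ⟨z, ?_, hz, ?_⟩
  · exact val_of_const p hp2 P hPc hC χ z fun y hy hy1 => by rw [hconst y hy hy1, hz]
  · exact Cfsg.Agent.M22.BDataOfBlocks.dvd_of_const (P : Subgroup G) hPc χ z fun y hy hy1 => by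
      rw [hconst y hy hy1, hz]

end gen

section good

variable {S : Type u} [Group S] [Finite S]

/-- the Galois conjugates of a good character -/
theorem pow_good (hC : TwoC S) {χ : S → ℂ} (h : Good χ) {k : ℕ} (hk : k.Coprime (Nat.card S)) :
    Good (fun g => χ (g ^ k)) := by
  have h1 : IsIrrCharacter S (fun g => χ (g ^ k)) := GaloisIrr.isIrr_pow hk h.odd.1
  have h2 : charDegree (fun g => χ (g ^ k)) = charDegree χ := by
    show ⌊(χ (1 ^ k)).re⌋₊ = ⌊(χ 1).re⌋₊
    rw [one_pow]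
  refine good_of hC ⟨h1, by rw [h2]; exact h.odd.2⟩ ?_
  intro j h3 h4 g
  show χ ((g ^ j) ^ k) = χ (g ^ k)
  rw [← pow_mul, mul_comm, pow_mul]
  exact h.sig j h3 h4 (g ^ k)

/-- If all good characters are in `{a, b, c, d}`, and `a, b, c` are Galois invariant, so is `d`. -/
theorem inv_of_four (hC : TwoC S) {a b c d : S → ℂ} (hd : Good d)
    (ha : ∀ k : ℕ, k.Coprime (Nat.card S) → ∀ g, a (g ^ k) = a g)
    (hb : ∀ k : ℕ, k.Coprime (Nat.card S) → ∀ g, b (g ^ k) = b g)
    (hc : ∀ k : ℕ, k.Coprime (Nat.card S) → ∀ g, c (g ^ k) = c g) (had : d ≠ a) (hbd : d ≠ b) (hcd : d ≠ c)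
    (hall : ∀ χ : S → ℂ, Good χ → χ = a ∨ χ = b ∨ χ = c ∨ χ = d) :
    ∀ k : ℕ, k.Coprime (Nat.card S) → ∀ g, d (g ^ k) = d g := by
  intro k hk g
  have hkey : ∀ χ : S → ℂ, (∀ k : ℕ, k.Coprime (Nat.card S) → ∀ g, χ (g ^ k) = χ g) → (fun g => d (g ^ k)) = χ →
      d = χ := by
    intro χ hχ h
    funext y
    obtain ⟨x, rfl⟩ := (powCoprime (G := S) hk.symm).surjective y
    show d (x ^ k) = χ (x ^ k)
    rw [hχ k hk x]
    exact congrFun h x
  rcases hall _ (pow_good hC hd hk) with h | h | h | h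
  · exact absurd (hkey a ha h) had
  · exact absurd (hkey b hb h) hbd
  · exact absurd (hkey c hc h) hcd
  · exact congrFun h g

end good

end Cfsg.Agent.H299.K4.Const
end

-- part: H299/K4/Suz
section
set_option linter.all false
open scoped Cfsg.Agent.FastGrp

/-!
# K4 rows (S4947, S4547): the Suzuki group `Suz` (helper299)

The rational characters `1`, `143`, `1001` vanish at the elements of order 11 and 13 (except `1`); if there are at most
four good characters, the fourth one is rational, its values at these elements are `±1`, and its degree is an odd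
divisor of the order, congruent to `±1` modulo 11 and 13: it is 1.
-/

set_option autoImplicit false

namespace Cfsg.Agent.H299.K4.SuzRow

open Cfsg Cfsg.Agent.Characters.Core Cfsg.Agent.Characters Cfsg.Agent.H601.K4 Cfsg.Agent.H329.K4
  Cfsg.Agent.H601.OddDeg Cfsg.Agent.H299.K4.Const Subgroup
open Cfsg.Spor (Suz)
open Cfsg.Agent.H978.TZ.Suzuki (finS exists_chars eq_of_sum)
open Cfsg.Agent.SporadicRecognition.SuzOrder (card_Suz)

universe u

theorem card_suz : Nat.card Suz = 448345497600 := Cfsg.Agent.NotCT.Orders.suz ⟨MulEquiv.refl _⟩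

/-- Galois invariance from rationality. -/
theorem inv_of_rat {G : Type*} [Group G] [Finite G] {χ : G → ℂ} (hχ : IsCharacter G χ) (hq : ∀ g, ∃ q : ℚ, χ g = q) :
    ∀ k : ℕ, k.Coprime (Nat.card G) → ∀ g, χ (g ^ k) = χ g := by
  intro k hk g
  obtain ⟨σ, hσ⟩ := GaloisBasic.exists_ringEquiv_of_coprime hk
  obtain ⟨q, hq⟩ := hq g
  rw [← hσ χ hχ g, hq, map_ratCast]

open Cfsg.Agent.SporRec.SuzCl in
theorem card_Fx_pow [Finite Suz] {k : ℕ} (hk : k.Coprime (Nat.card Suz)) (x : Suz) :
    (Fx (x ^ k)).card = (Fx x).card := by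
  obtain ⟨y, hy⟩ : ∃ l : ℕ, (x ^ k) ^ l = x := by
    have h1 : (orderOf x).Coprime k := (hk.coprime_dvd_right (orderOf_dvd_natCard x)).symm
    obtain ⟨l, hl⟩ := exists_pow_eq_self_of_coprime h1.symm
    exact ⟨l, hl⟩
  have key : ∀ (z : Suz) (n p : ℕ), Cfsg.Agent.SporadicRecognition.SuzPhi.φ z p = p →
      Cfsg.Agent.SporadicRecognition.SuzPhi.φ (z ^ n) p = p := by
    intro z n p hp
    rw [map_pow]
    induction n with
    | zero => rfl
    | succ n ih => rw [pow_succ, Equiv.Perm.mul_apply, hp, ih]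
  refine congrArg Finset.card (Finset.ext fun p => ?_)
  rw [Cfsg.Agent.CpAutSuz.Fix.mem_Fx, Cfsg.Agent.CpAutSuz.Fix.mem_Fx]
  constructor
  · rintro ⟨h1, h2⟩
    refine ⟨h1, ?_⟩
    have := key (x ^ k) y p h2
    rwa [hy] at this
  · rintro ⟨h1, h2⟩
    exact ⟨h1, key x k p h2⟩

/-- the character of degree 1001 -/
theorem exists_1001 : ∃ β : Suz → ℂ, IsIrrCharacter Suz β ∧ β 1 = 1001 ∧
    ∀ k : ℕ, k.Coprime (Nat.card Suz) → ∀ g, β (g ^ k) = β g := by
  have := finS
  obtain ⟨χ, ψ, h1, h2, hfx⟩ := exists_chars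
  refine ⟨ψ, ψ.2, h2, fun k hk g => ?_⟩
  have k1 : IsIrrCharacter Suz (fun g => (χ : Suz → ℂ) (g ^ k)) := GaloisIrr.isIrr_pow hk χ.2
  have k2 : IsIrrCharacter Suz (fun g => (ψ : Suz → ℂ) (g ^ k)) := GaloisIrr.isIrr_pow hk ψ.2
  have h := (eq_of_sum χ.2 ψ.2 k1 k2 (fun x => ?_) ?_ ?_).symm
  · exact congrFun h g
  · rw [← hfx]
    show _ = 1 + (χ : Suz → ℂ) (x ^ k) + (ψ : Suz → ℂ) (x ^ k)
    rw [← hfx, card_Fx_pow hk]
  · show (χ : Suz → ℂ) 1 ≠ (ψ : Suz → ℂ) (1 ^ k)
    rw [one_pow, h1, h2]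
    norm_num
  · show (χ : Suz → ℂ) (1 ^ k) ≠ (ψ : Suz → ℂ) (1 ^ k)
    rw [one_pow, h1, h2]
    norm_num

/-- the character of degree 143 -/
theorem exists_143' : ∃ α : Suz → ℂ, IsIrrCharacter Suz α ∧ α 1 = 143 ∧ ∀ g, ∃ q : ℚ, α g = q := by
  obtain ⟨ψ, h1, h2, h3⟩ := SuzX.exists_143
  obtain ⟨e⟩ := SuzX.isoX
  refine ⟨ψ ∘ e.symm, isIrr_comp e.symm.toMonoidHom e.symm.surjective h1, ?_, fun g => h3 _⟩
  show ψ (e.symm 1) = 143
  rw [map_one, h2]

theorem table : ∀ i < 8, ∀ m ∈ Nat.divisors 175, ((3 ^ i * m) % 11 = 1 ∨ (3 ^ i * m) % 11 = 10) →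
    ((3 ^ i * m) % 13 = 1 ∨ (3 ^ i * m) % 13 = 12) → 3 ^ i * m = 1 := by decide +kernel

theorem num {d : ℕ} (hd : d ∣ 448345497600) (h2 : ¬ 2 ∣ d) (h11 : d % 11 = 1 ∨ d % 11 = 10)
    (h13 : d % 13 = 1 ∨ d % 13 = 12) : d = 1 := by
  have e1 : 448345497600 = 2 ^ 13 * (11 * (13 * 382725)) := by norm_num
  rw [e1] at hd
  have c1 : d.Coprime (2 ^ 13) := Nat.Coprime.pow_right 13 ((Nat.Prime.coprime_iff_not_dvd Nat.prime_two).2 h2).symm
  have c2 : d.Coprime 11 := ((Nat.Prime.coprime_iff_not_dvd (by norm_num)).2 (by omega)).symm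
  have c3 : d.Coprime 13 := ((Nat.Prime.coprime_iff_not_dvd (by norm_num)).2 (by omega)).symm
  have h3 : d ∣ 382725 := c3.dvd_of_dvd_mul_left (c2.dvd_of_dvd_mul_left (c1.dvd_of_dvd_mul_left hd))
  rw [show 382725 = 3 ^ 7 * 175 by norm_num] at h3
  obtain ⟨a, b, ha, hb, rfl⟩ := (Nat.dvd_mul).1 h3
  obtain ⟨i, hi, rfl⟩ := (Nat.dvd_prime_pow Nat.prime_three).1 ha
  exact table i (by omega) b (Nat.mem_divisors.2 ⟨hb, by norm_num⟩) h11 h13

theorem exists_cent {p : ℕ} (hp : p = 11 ∨ p = 13) :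
    ∃ x : Suz, orderOf x = p ∧ Nat.card (centralizer ({x} : Set Suz)) = p := by
  have := finS
  rcases hp with rfl | rfl
  · exact Cfsg.Agent.H348.PPD.RowSuz.cent11
  · have : Fact (Nat.Prime 13) := ⟨by norm_num⟩
    obtain ⟨x, hx⟩ := exists_prime_orderOf_dvd_card' (G := Suz) 13 (by rw [card_suz]; norm_num)
    exact ⟨x, hx, Cfsg.Agent.H153.Zeros.card_cent_suz hx⟩

/-- **`Suz`** -/
theorem good5_model : Good5 Suz := by
  classical
  have := finS
  have hC : TwoC Suz := Cfsg.Agent.H989.TwoCSpor.twoC_suz ⟨MulEquiv.refl _⟩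
  have hev : Even (Nat.card Suz) := by rw [card_suz]; decide
  obtain ⟨α, ha1, ha2, ha3⟩ := exists_143'
  obtain ⟨β, hb1, hb2, hb3⟩ := exists_1001
  have da : charDegree α = 143 := Cfsg.Agent.Blocks.Basic.charDegree_of_eq (by rw [ha2]; norm_num)
  have db : charDegree β = 1001 := Cfsg.Agent.Blocks.Basic.charDegree_of_eq (by rw [hb2]; norm_num)
  have ga : Good α := good_of_rat hC ⟨ha1, by rw [da]; decide⟩ ha3
  have gb : Good β := good_of hC ⟨hb1, by rw [db]; decide⟩ (SigFix.of_pow hb3)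
  have g1 : Good (fun _ : Suz => (1 : ℂ)) := good_one hC
  have n1 : (fun _ : Suz => (1 : ℂ)) ≠ α := fun h => by
    have := congrFun h 1
    rw [ha2] at this
    norm_num at this
  have n2 : (fun _ : Suz => (1 : ℂ)) ≠ β := fun h => by
    have := congrFun h 1
    rw [hb2] at this
    norm_num at this
  have n3 : α ≠ β := fun h => by
    have := congrFun h 1
    rw [ha2, hb2] at this
    norm_num at this
  -- the values of `α` and `β`
  have hz : ∀ (p : ℕ), p = 11 ∨ p = 13 → ∀ x : Suz, orderOf x = p → α x = 0 ∧ β x = 0 := by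
    intro p hp x hx
    have hpp : p.Prime := by rcases hp with rfl | rfl <;> norm_num
    have h1 : p ^ 1 ∣ Nat.card Suz := by rw [card_suz]; rcases hp with rfl | rfl <;> norm_num
    have h2 : ¬ p ^ (1 + 1) ∣ Nat.card Suz := by rw [card_suz]; rcases hp with rfl | rfl <;> norm_num
    constructor
    · exact H740.K4.zero_of_dvd hpp h1 h2 ha1 (d := 143) (by rw [ha2]; norm_num)
        (by rcases hp with rfl | rfl <;> norm_num) (by rw [hx])
    · exact H740.K4.zero_of_dvd hpp h1 h2 hb1 (d := 1001) (by rw [hb2]; norm_num)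
        (by rcases hp with rfl | rfl <;> norm_num) (by rw [hx])
  obtain ⟨x, hx, hxc⟩ := exists_cent (p := 11) (Or.inl rfl)
  obtain ⟨y, hy, hyc⟩ := exists_cent (p := 13) (Or.inr rfl)
  have hxo : Odd (orderOf x) := by rw [hx]; decide
  have hyo : Odd (orderOf y) := by rw [hy]; decide
  -- the fourth one
  obtain ⟨γ, hγ, hγs⟩ := exists_new hC hev {(fun _ : Suz => (1 : ℂ)), α, β} (by
    intro χ h
    simp only [Finset.mem_insert, Finset.mem_singleton] at h
    rcases h with rfl | rfl | rfl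
    · exact g1
    · exact ga
    · exact gb) hxo (n := 1) (by decide) (by
      rw [Finset.sum_insert (by simp [n1, n2]), Finset.sum_insert (by simp [n3]), Finset.sum_singleton,
        (hz 11 (Or.inl rfl) x hx).1, (hz 11 (Or.inl rfl) x hx).2]
      norm_num)
  simp only [Finset.mem_insert, Finset.mem_singleton, not_or] at hγs
  obtain ⟨m1, m2, m3⟩ := hγs
  obtain ⟨s, hs⟩ : ∃ s : Finset (Suz → ℂ), s = {(fun _ : Suz => (1 : ℂ)), α, β, γ} := ⟨_, rfl⟩
  have hgs : ∀ χ ∈ s, Good χ := by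
    intro χ h
    rw [hs] at h
    simp only [Finset.mem_insert, Finset.mem_singleton] at h
    rcases h with rfl | rfl | rfl | rfl
    · exact g1
    · exact ga
    · exact gb
    · exact hγ
  have hsum : ∀ t : Suz, ∑ χ ∈ s, χ t = 1 + (α t + (β t + γ t)) := by
    intro t
    rw [hs, Finset.sum_insert (by simp [n1, n2, Ne.symm m1]), Finset.sum_insert (by simp [n3, Ne.symm m2]),
      Finset.sum_insert (by simp [Ne.symm m3]), Finset.sum_singleton]
  have hcs : s.card = 4 := by
    rw [hs, Finset.card_insert_of_notMem (by simp [n1, n2, Ne.symm m1]),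
      Finset.card_insert_of_notMem (by simp [n3, Ne.symm m2]), Finset.card_insert_of_notMem (by simp [Ne.symm m3]),
      Finset.card_singleton]
  by_cases hnew : ∃ χ : Suz → ℂ, Good χ ∧ χ ∉ s
  · obtain ⟨χ, h1, h2⟩ := hnew
    refine good5_of_finset (insert χ s) (fun η hη => ?_) (by rw [Finset.card_insert_of_notMem h2, hcs])
    rcases Finset.mem_insert.1 hη with rfl | h3
    · exact h1
    · exact hgs η h3
  exfalso
  push Not at hnew
  have hall : ∀ χ : Suz → ℂ, Good χ → χ = (fun _ => 1) ∨ χ = α ∨ χ = β ∨ χ = γ := by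
    intro χ h
    have h1 := hnew χ h
    rw [hs] at h1
    simpa only [Finset.mem_insert, Finset.mem_singleton] using h1
  have hinv := inv_of_four hC hγ (fun _ _ _ => rfl) (inv_of_rat (isIrr_isCharacter ha1) ha3) hb3 m1 m2 m3 hall
  -- the residues
  have hres : ∀ p : ℕ, p = 11 ∨ p = 13 → ∀ t : Suz, orderOf t = p → Nat.card (centralizer ({t} : Set Suz)) = p →
      charDegree γ % p = 1 ∨ charDegree γ % p = p - 1 := by
    intro p hp t ht htc
    have hpp : Fact p.Prime := ⟨by rcases hp with rfl | rfl <;> norm_num⟩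
    obtain ⟨m, hm, hmd⟩ : ∃ m, Nat.card Suz = p * m ∧ ¬ p ∣ m := by
      rw [card_suz]
      rcases hp with rfl | rfl
      · exact ⟨40758681600, by norm_num, by norm_num⟩
      · exact ⟨34488115200, by norm_num, by norm_num⟩
    obtain ⟨z, hz3, hzv, hzd⟩ := residue p (by rcases hp with rfl | rfl <;> norm_num) hm hmd ht htc ⟨γ, hγ.odd.1⟩ hinv
    have hzne : z ≠ 0 := by
      rintro rfl
      obtain ⟨χ, h1, h2⟩ := exists_new hC hev s hgs (t := t) (by rw [ht]; rcases hp with rfl | rfl <;> decide) (n := 1)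
        (by decide) (by
          rw [hsum, (hz p hp t ht).1, (hz p hp t ht).2]
          have : γ t = ((0 : ℤ) : ℂ) := hzv
          rw [this]
          norm_num)
      exact h2 (hnew χ h1)
    have hzd : (p : ℤ) ∣ (charDegree γ : ℤ) - z := hzd
    rcases hz3 with h | rfl | rfl
    · exact absurd h hzne
    · left
      rcases hp with rfl | rfl <;> omega
    · right
      rcases hp with rfl | rfl <;> omega
  have h11 := hres 11 (Or.inl rfl) x hx hxc
  have h13 := hres 13 (Or.inr rfl) y hy hyc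
  have hdeg : charDegree γ ∣ 448345497600 := by
    rw [← card_suz]
    exact Cfsg.Agent.Blocks.Knorr.charDegree_dvd hγ.odd.1
  have hd1 := num hdeg hγ.odd.2 (by simpa using h11) (by simpa using h13)
  have hs : IsSimpleGroup Suz := Cfsg.Agent.S1694.result.1
  have hlast := Cfsg.Agent.M22.Degrees.eq_one_of_charDegree (G := Suz) (by rw [card_suz]; norm_num) ⟨γ, hγ.odd.1⟩ hd1
  apply m1
  exact congrArg Subtype.val hlast

/-- **Row `Suz`.** -/
theorem good5 {S : Type u} [Group S] (h : Spor.IsoSuz S) : Good5 S := by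
  have := finS
  obtain ⟨e⟩ := id h
  have : Finite S := Finite.of_equiv _ e.symm.toEquiv
  exact good5_of_equiv (Cfsg.Agent.H989.TwoCSpor.twoC_suz h) e good5_model

end Cfsg.Agent.H299.K4.SuzRow
end

-- part: H535/K4/ON
section
set_option linter.all false
open scoped Cfsg.Agent.FastGrp

/-!
# Row O'N of S4947, S4547 (helper535)

The characters of degree 1, 32395 (a rational one), 58653 and 116963 (determined by their degrees) are good; the sum
of their values at an element of order 5 is odd. Hence there is a fifth good character.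

* `good5_on`, `rowA_on`.
-/

set_option autoImplicit false

namespace Cfsg.Agent.H535.K4.ON

open Cfsg Subgroup
open Cfsg.Agent.Characters.Core
open Cfsg.Agent.H601.K4
open Cfsg.Agent.H921.K4 (Uniq)

universe u

theorem uniq_of {χ : IrrCharacter Spor.ON} {d : ℕ} (hd : charDegree (χ : Spor.ON → ℂ) = d) (h2 : ¬ 2 ∣ d)
    (hu : ∀ ψ : IrrCharacter Spor.ON, charDegree (ψ : Spor.ON → ℂ) = d → ψ = χ) : Uniq (χ : Spor.ON → ℂ) where
  irr := χ.2
  odd := by rw [hd]; exact h2
  uniq := by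
    intro ψ hψ h1
    have h3 := Cfsg.Agent.Blocks.Basic.irr_one_eq_charDegree hψ
    have h4 := Cfsg.Agent.Blocks.Basic.irr_one_eq_charDegree χ.2
    rw [h3, h4] at h1
    have h5 : charDegree ψ = charDegree (χ : Spor.ON → ℂ) := by exact_mod_cast h1
    exact congrArg Subtype.val (hu ⟨ψ, hψ⟩ (h5.trans hd))

theorem good5_model : Good5 Spor.ON := by
  classical
  have hfin : Finite Spor.ON := KFacts.ON.Cent.finite_ON
  have hs : IsSimpleGroup Spor.ON := KFacts.ON.Cent.hON.1
  have hcard : Nat.card Spor.ON = 460815505920 := H210.On7.exists_data.some.card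
  have hna : ¬ IsMulCommutative Spor.ON := by
    intro h
    have h1 := H210.On7.px1
    rw [h.is_comm.comm H210.On7.p0 H210.On7.x1, mul_inv_cancel_right] at h1
    have h3 := H210.On7.px2
    rw [h.is_comm.comm H210.On7.p0 H210.On7.x2, mul_inv_cancel_right, ← h1] at h3
    have h4 : H210.On7.x1 ^ 2 = 1 := by rw [pow_two]; nth_rewrite 1 [h3]; exact inv_mul_cancel _
    exact H210.On7.x1_ne (R04.ThreeAbs.eq_one_of_sq_cube h4 H210.On7.x1_pow)
  obtain ⟨Δ⟩ := H210.On7.exists_data
  have hON : Spor.IsoON Spor.ON := ⟨MulEquiv.refl _⟩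
  have hC : H601.OddDeg.TwoC Spor.ON := H989.TwoCSpor.twoC_spor (by
    unfold IsSporadicGroup
    exact Or.inr (Or.inr (Or.inr (Or.inr (Or.inr (Or.inr (Or.inr (Or.inr (Or.inr (Or.inr (Or.inr (Or.inr (Or.inr
      (Or.inr (Or.inr (Or.inr (Or.inr (Or.inl hON))))))))))))))))))
  -- the characters
  obtain ⟨a, ha, hrat, ha1⟩ := H710.R4.irr_ON
  have had : charDegree a = 32395 := Cfsg.Agent.Blocks.Basic.charDegree_of_eq ha1
  obtain ⟨b, -, hb⟩ := exists_deg hna Δ 58653 a_f58653 cs_f58653 cert_f58653 all_f58653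
  obtain ⟨c, -, hc⟩ := exists_deg hna Δ 116963 a_f116963 cs_f116963 cert_f116963 all_f116963
  have ub : Uniq (b : Spor.ON → ℂ) := uniq_of hb (by norm_num) fun ψ hψ =>
    uniq_deg hna Δ 58653 a_u58653 m_u58653 (by norm_num [m_u58653]) cs_u58653 cert_u58653 all_u58653 hψ hb
  have uc : Uniq (c : Spor.ON → ℂ) := uniq_of hc (by norm_num) fun ψ hψ =>
    uniq_deg hna Δ 116963 a_u116963 m_u116963 (by norm_num [m_u116963]) cs_u116963 cert_u116963 all_u116963 hψ hc
  have ga : Good a := H329.K4.good_of_rat hC ⟨ha, by rw [had]; norm_num⟩ hrat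
  have g1 : Good (fun _ : Spor.ON => (1 : ℂ)) := H329.K4.good_one hC
  have d1 : charDegree (fun _ : Spor.ON => (1 : ℂ)) = 1 := by
    apply Cfsg.Agent.Blocks.Basic.charDegree_of_eq
    simp
  -- the values at the element of order 5
  obtain ⟨n, hn, hbn⟩ := exists_val hna Δ 58653 even_58653 b.2 hb
  obtain ⟨m, hm, hcm⟩ := exists_val hna Δ 116963 even_116963 c.2 hc
  have hay : a Δ.y = 0 := by
    refine H692.RealOver.defect_zero_vanish ha 5 Nat.prime_five ?_ (by rw [Δ.oy])
    have h2 : (Nat.card Spor.ON).factorization 5 = 1 := by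
      rw [hcard, show (460815505920 : ℕ) = 5 ^ 1 * 92163101184 by norm_num,
        Nat.factorization_mul (by norm_num) (by norm_num), Nat.Prime.factorization_pow Nat.prime_five]
      rw [Finsupp.add_apply, Finsupp.single_eq_same, Nat.factorization_eq_zero_of_not_dvd (by norm_num)]
    rw [h2, had]
    norm_num
  have key : ∀ {χ ψ : Spor.ON → ℂ}, charDegree χ ≠ charDegree ψ → χ ≠ ψ := fun h h' => h (by rw [h'])
  obtain ⟨s, hsd⟩ : ∃ s : Finset (Spor.ON → ℂ), s = {(fun _ : Spor.ON => (1 : ℂ)), a, (b : Spor.ON → ℂ),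
    (c : Spor.ON → ℂ)} := ⟨_, rfl⟩
  have n1a : (fun _ : Spor.ON => (1 : ℂ)) ≠ a := key (by rw [d1, had]; norm_num)
  have n1b : (fun _ : Spor.ON => (1 : ℂ)) ≠ (b : Spor.ON → ℂ) := key (by rw [d1, hb]; norm_num)
  have n1c : (fun _ : Spor.ON => (1 : ℂ)) ≠ (c : Spor.ON → ℂ) := key (by rw [d1, hc]; norm_num)
  have nab : a ≠ (b : Spor.ON → ℂ) := key (by rw [had, hb]; norm_num)
  have nac : a ≠ (c : Spor.ON → ℂ) := key (by rw [had, hc]; norm_num)
  have nbc : (b : Spor.ON → ℂ) ≠ (c : Spor.ON → ℂ) := key (by rw [hb, hc]; norm_num)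
  have hgood : ∀ χ ∈ s, Good χ := by
    intro χ hχ
    rw [hsd] at hχ
    simp only [Finset.mem_insert, Finset.mem_singleton] at hχ
    rcases hχ with rfl | rfl | rfl | rfl
    · exact g1
    · exact ga
    · exact ub.good
    · exact uc.good
  have hsc : s.card = 4 := by
    rw [hsd, Finset.card_insert_of_notMem, Finset.card_insert_of_notMem, Finset.card_pair nbc]
    · simp only [Finset.mem_insert, Finset.mem_singleton, not_or]
      exact ⟨nab, nac⟩
    · simp only [Finset.mem_insert, Finset.mem_singleton, not_or]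
      exact ⟨n1a, n1b, n1c⟩
  have hsum : ∑ χ ∈ s, χ Δ.y = ((1 + (n + m) : ℤ) : ℂ) := by
    rw [hsd, Finset.sum_insert, Finset.sum_insert, Finset.sum_pair nbc, hay, hbn, hcm]
    · push_cast
      ring
    · simp only [Finset.mem_insert, Finset.mem_singleton, not_or]
      exact ⟨nab, nac⟩
    · simp only [Finset.mem_insert, Finset.mem_singleton, not_or]
      exact ⟨n1a, n1b, n1c⟩
  obtain ⟨χ, hχ, hχs⟩ := H329.K4.exists_new hC (by rw [hcard]; decide) s hgood (t := Δ.y) (by rw [Δ.oy]; decide)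
    (n := 1 + (n + m)) (odd_one.add_even (hn.add hm)) hsum
  refine H329.K4.good5_of_finset (insert χ s) ?_ ?_
  · intro ψ hψ
    rcases Finset.mem_insert.1 hψ with rfl | h
    · exact hχ
    · exact hgood ψ h
  · rw [Finset.card_insert_of_notMem hχs, hsc]

/-- **`O'N`, row (A) of S4547** -/
theorem good5_on {S : Type u} [Group S] (h : Spor.IsoON S) : Good5 S := by
  have hfin : Finite Spor.ON := KFacts.ON.Cent.finite_ON
  obtain ⟨e⟩ := h
  have : Finite S := Finite.of_equiv _ e.symm.toEquiv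
  exact H740.K4.good5_of_equiv e good5_model

end Cfsg.Agent.H535.K4.ON

private theorem dce_5e30ca6e4df1 : _root_.True := by
  try have : _root_.True := by simp only [_root_.Cfsg.Agent.H535.K4.ON.m_u58653.eq_1]
  try have : _root_.True := by simp only [_root_.Cfsg.Agent.H535.K4.ON.m_u116963.eq_1]
  exact _root_.True.intro
end
end
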